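import Cfsg.Agent.H912.Bd1

/-!
# TEAM PPD (S5948): an element permuting the eigenvalues of another one (helper462)

`le_finrank` : over an algebraically closed field, `h ^ (r ^ a) = 1`, `X h = z • h X ^ t`, `X` semisimple of order prime
to the characteristic, and `h ^ (r ^ (a - 1))` does not commute with `X`: then `r ^ a ≤ dim V`.
-/

set_option autoImplicit false

namespace Cfsg.Agent.H462.Ppd

open Module

universe u v

section

variable {K : Type u} [Field K] {V : Type v} [AddCommGroup V] [Module K V]

theorem pow_apply_eigen {X : Module.End K V} {l : K} {v : V} (hv : X v = l • v) (t : ℕ) :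
    (X ^ t) v = l ^ t • v := by
  induction t with
  | zero => simp
  | succ t ih => rw [pow_succ, Module.End.mul_apply, hv, map_smul, ih, smul_smul, pow_succ, mul_comm]

/-- `h` maps the eigenspace of `l` to the one of `z l ^ t` -/
theorem step {X h : Module.End K V} {z : K} {t : ℕ} (hX : X * h = z • (h * X ^ t)) {l : K} {v : V}
    (hv : X v = l • v) : X (h v) = (z * l ^ t) • h v := by
  have h1 : X (h v) = (X * h) v := rfl
  rw [h1, hX, LinearMap.smul_apply, Module.End.mul_apply, pow_apply_eigen hv, map_smul, smul_smul]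

theorem step_pow {X h : Module.End K V} {z : K} {t : ℕ} (hX : X * h = z • (h * X ^ t)) {l : K} {v : V}
    (hv : X v = l • v) (j : ℕ) : X ((h ^ j) v) = ((fun y : K => z * y ^ t)^[j] l) • (h ^ j) v := by
  induction j with
  | zero => simpa using hv
  | succ j ih =>
    rw [Function.iterate_succ_apply', pow_succ', Module.End.mul_apply]
    exact step hX ih

theorem le_finrank [IsAlgClosed K] [FiniteDimensional K V] {X h : Module.End K V} {z : K} {t : ℕ}
    (hX : X * h = z • (h * X ^ t)) {r a : ℕ} (hr : r.Prime) (hh : h ^ (r ^ a) = 1) {N : ℕ} (hN : (N : K) ≠ 0)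
    (hXN : X ^ N = 1) (hne : X * h ^ (r ^ (a - 1)) ≠ h ^ (r ^ (a - 1)) * X) : r ^ a ≤ finrank K V := by
  classical
  set f : K → K := fun y : K => z * y ^ t with hf
  -- eigenvalues are periodic
  have hinj : ∀ (j : ℕ) (v : V), v ≠ 0 → (h ^ j) v ≠ 0 := by
    intro j v hv h0
    apply hv
    have h1 : (h ^ (r ^ a * j - j)) ((h ^ j) v) = v := by
      rw [← Module.End.mul_apply, ← pow_add]
      have h2 : r ^ a * j - j + j = r ^ a * j := by
        have : j ≤ r ^ a * j := Nat.le_mul_of_pos_left _ (pow_pos hr.pos _)
        omega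
      rw [h2, pow_mul, hh, one_pow, Module.End.one_apply]
    rw [← h1, h0, map_zero]
  have hper : ∀ (l : K) (v : V), v ≠ 0 → X v = l • v → Function.IsPeriodicPt f (r ^ a) l := by
    intro l v hv hXv
    have h1 := step_pow hX hXv (r ^ a)
    rw [hh, Module.End.one_apply, hXv] at h1
    have h2 : (l - f^[r ^ a] l) • v = 0 := by rw [sub_smul, h1, sub_self]
    exact (sub_eq_zero.1 ((smul_eq_zero.1 h2).resolve_right hv)).symm
  by_contra hlt
  apply hne
  -- every eigenvalue has period dividing `r ^ (a - 1)`
  have hsmall : ∀ (l : K) (v : V), v ≠ 0 → X v = l • v → f^[r ^ (a - 1)] l = l := by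
    intro l v hv hXv
    have h1 := (hper l v hv hXv).minimalPeriod_dvd
    obtain ⟨i, hi, h2⟩ := (Nat.dvd_prime_pow hr).1 h1
    by_cases h3 : i = a
    · exfalso
      apply hlt
      have h4 : LinearIndependent K (fun j : Fin (r ^ a) => (h ^ (j : ℕ)) v) := by
        apply Module.End.eigenvectors_linearIndependent' X (fun j : Fin (r ^ a) => f^[(j : ℕ)] l)
        · intro j₁ j₂ h5
          apply Fin.ext
          have h6 := Function.iterate_injOn_Iio_minimalPeriod (f := f) (x := l)
          rw [h2, h3] at h6
          exact h6 j₁.2 j₂.2 h5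
        · intro j
          exact ⟨Module.End.mem_eigenspace_iff.2 (step_pow hX hXv j), hinj j v hv⟩
      have h5 := h4.fintype_card_le_finrank
      rwa [Fintype.card_fin] at h5
    · have h4 : i ≤ a - 1 := by omega
      have h5 : Function.IsPeriodicPt f (Function.minimalPeriod f l) l := Function.isPeriodicPt_minimalPeriod f l
      rw [h2] at h5
      exact h5.trans_dvd (pow_dvd_pow r h4)
  have htop : ∀ v : V, (X * h ^ (r ^ (a - 1))) v = (h ^ (r ^ (a - 1)) * X) v := by
    intro v
    have h1 : v ∈ ⨆ μ, X.maxGenEigenspace μ := by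
      rw [Module.End.iSup_maxGenEigenspace_eq_top]; trivial
    induction h1 using Submodule.iSup_induction' with
    | mem μ v hv =>
      rw [H912.Bd.maxGen_eq hN hXN, Module.End.mem_eigenspace_iff] at hv
      by_cases hv0 : v = 0
      · rw [hv0, map_zero, map_zero]
      · have h2 := step_pow hX hv (r ^ (a - 1))
        change X ((h ^ r ^ (a - 1)) v) = (f^[r ^ (a - 1)] μ) • _ at h2
        rw [hsmall μ v hv0 hv] at h2
        rw [Module.End.mul_apply, Module.End.mul_apply, h2, hv, map_smul]
    | zero => rw [map_zero, map_zero]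
    | add v w _ _ h2 h3 => rw [map_add, map_add, h2, h3]
  exact LinearMap.ext htop

end

end Cfsg.Agent.H462.Ppd
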