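import Cfsg.Agent.H100.Ppd.Basic
import Cfsg.Agent.H462.Ppd.LinOrb

/-!
# TEAM PPD (S5948): the good prime lemma (helper462)

`Row.good_of_field` : if the primes of `|Out T|` not dividing `|T|` come from a field automorphism `φ` with
`φ x = x ^ p`, then some prime `r ∣ m` divides `|T|`.
-/

set_option autoImplicit false
set_option linter.unusedSectionVars false

namespace Cfsg.Agent.H462.Ppd

open Cfsg Cfsg.Geo Matrix Cfsg.Agent.H100.Ppd
open Cfsg.Agent.H915.LD

universe u v w

/-- an `r`-element of `G` is conjugate into a subgroup of index prime to `r` -/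
theorem exists_conj_mem {G : Type u} [Group G] [Finite G] (H : Subgroup G) {r : ℕ} (hr : r.Prime)
    (hH : ¬ r ∣ H.index) (g : G) {a : ℕ} (hg : orderOf g = r ^ a) : ∃ y : G, y⁻¹ * g * y ∈ H := by
  have : Fact r.Prime := ⟨hr⟩
  have h1 : IsPGroup r (Subgroup.zpowers g) := by
    rw [IsPGroup.iff_card]
    exact ⟨a, by rw [Nat.card_zpowers, hg]⟩
  obtain ⟨y, hy⟩ := h1.nonempty_fixed_point_of_prime_not_dvd_card (G ⧸ H) hH
  obtain ⟨y, rfl⟩ := QuotientGroup.mk_surjective y
  refine ⟨y, ?_⟩
  have h2 := hy ⟨g, Subgroup.mem_zpowers g⟩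
  have h3 : ((g * y : G) : G ⧸ H) = (y : G ⧸ H) := h2
  rw [eq_comm, QuotientGroup.eq] at h3
  rwa [mul_assoc]

section

variable {T : Type v} [Group T]

theorem field_pow {φ : MulAut T} {x : T} {p : ℕ} (hx : φ x = x ^ p) (s : ℕ) : (φ ^ s) x = x ^ p ^ s := by
  induction s with
  | zero => simp
  | succ s ih => rw [pow_succ, MulAut.mul_apply, hx, map_pow, ih, ← pow_mul, pow_succ]

/-- `x' = y x` on which `α` acts as a power of the field automorphism `φ` -/
theorem exists_frame [Finite T] {φ : MulAut T} {x : T} {p b c : ℕ} (hcard : Nat.card (MulAut T) = Nat.card T * (c * b))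
    (hφ : orderOf φ = b) (hx : φ x = x ^ p) (hfix : ∀ s, x ^ p ^ s = x → b ∣ s) {r a : ℕ} (hr : r.Prime)
    (hrT : ¬ r ∣ Nat.card T) (hrc : ¬ r ∣ c) (α : MulAut T) (hα : orderOf α = r ^ a) :
    ∃ (x' : T) (s : ℕ), orderOf x' = orderOf x ∧ α x' = x' ^ p ^ s ∧ ∀ j : ℕ, (α ^ j) x' = x' → α ^ j = 1 := by
  have hidx : ¬ r ∣ (Subgroup.zpowers φ).index := by
    have h1 := (Subgroup.zpowers φ).card_mul_index
    rw [Nat.card_zpowers, hφ, hcard] at h1
    have hb : 0 < b := by rw [← hφ]; exact orderOf_pos φ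
    have h2 : (Subgroup.zpowers φ).index = Nat.card T * c := by
      apply Nat.eq_of_mul_eq_mul_left hb
      rw [h1]; ring
    rw [h2]
    intro h3
    rcases hr.dvd_mul.1 h3 with h3 | h3
    · exact hrT h3
    · exact hrc h3
  obtain ⟨y, hy⟩ := exists_conj_mem (Subgroup.zpowers φ) hr hidx α hα
  rw [← mem_powers_iff_mem_zpowers] at hy
  obtain ⟨s, hs⟩ := hy
  have hs : φ ^ s = y⁻¹ * α * y := hs
  have hconj : ∀ j : ℕ, y⁻¹ * α ^ j * y = φ ^ (s * j) := by
    intro j
    rw [pow_mul, hs]
    have := conj_pow (i := j) (a := y⁻¹) (b := α)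
    rw [inv_inv] at this
    exact this.symm
  have hact : ∀ j : ℕ, (α ^ j) (y x) = y ((φ ^ (s * j)) x) := by
    intro j
    rw [← hconj j, MulAut.mul_apply, MulAut.mul_apply, MulAut.apply_inv_self]
  refine ⟨y x, s, ?_, ?_, ?_⟩
  · exact orderOf_injective y.toMonoidHom y.injective x
  · have h1 := hact 1
    rw [pow_one, mul_one, field_pow hx, map_pow] at h1
    exact h1
  · intro j hj
    rw [hact j] at hj
    have h1 := y.injective hj
    rw [field_pow hx] at h1
    have h2 := hfix _ h1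
    rw [← hφ] at h2
    have h3 := hconj j
    rw [orderOf_dvd_iff_pow_eq_one.1 h2] at h3
    have h4 : α ^ j = y * 1 * y⁻¹ := by rw [← h3]; group
    rw [h4]; group

end

variable {n : ℕ} {F : Type u} [Field F] [Finite F] {k m : ℕ} {P : Subgroup (GL (Fin n) F)}

theorem conjSoc_order (h : Row k m P) {g : Subgroup.normalizer (P : Set (GL (Fin n) F))} (hg : (g : GL (Fin n) F) ^ m = 1)
    (hc : conjSoc h.core.absIrred g = 1) : g = 1 := by
  apply Subtype.ext
  exact h.eq_one_of_scalar (scalar_of_conjSoc h.core hc) hg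

/-- lifts of elements of order prime to `p` have order prime to `p` -/
theorem exists_lift (P : Subgroup (GL (Fin n) F)) (x : Soc P) {p : ℕ} [Fact p.Prime] [CharP F p]
    (hx : ¬ p ∣ orderOf x) : ∃ (X : P) (N : ℕ), toSoc P X = x ∧ ¬ p ∣ N ∧ X ^ N = 1 := by
  obtain ⟨X, rfl⟩ := toSoc_surjective P x
  refine ⟨X, orderOf (toSoc P X) * (Nat.card F - 1), rfl, ?_, ?_⟩
  · intro h1
    have hp : p.Prime := Fact.out
    rcases hp.dvd_mul.1 h1 with h1 | h1
    · exact hx h1
    · have h2 : p ∣ Nat.card F := by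
        have : Fintype F := Fintype.ofFinite F
        rw [Nat.card_eq_fintype_card]
        obtain ⟨j, -, hj⟩ := FiniteField.card F p
        rw [hj]
        exact dvd_pow_self _ j.ne_zero
      have h3 : 1 < Nat.card F := Finite.one_lt_card
      have h4 : p ∣ 1 := by
        have := Nat.dvd_sub h2 h1
        rwa [Nat.sub_sub_self h3.le] at this
      exact hp.one_lt.ne' (Nat.dvd_one.1 h4)
  · have h1 : X ^ orderOf (toSoc P X) ∈ (toSoc P).ker := by
      rw [MonoidHom.mem_ker, map_pow, pow_orderOf_eq_one]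
    rw [ker_toSoc, Subgroup.mem_subgroupOf, mem_scalars_iff] at h1
    obtain ⟨c, hc⟩ := h1
    have hcard : (c : F) ^ (Nat.card F - 1) = 1 := by
      have : Fintype F := Fintype.ofFinite F
      rw [Nat.card_eq_fintype_card]
      exact FiniteField.pow_card_sub_one_eq_one _ c.ne_zero
    rw [pow_mul]
    apply Subtype.ext
    apply Units.ext
    rw [Subgroup.coe_pow, Units.val_pow_eq_pow_val, hc, smul_pow, hcard, one_pow, one_smul]
    rfl

/-- transfer to an algebraic closure -/
theorem pow_le_degree {g X : GL (Fin n) F} {c : Fˣ} {t : ℕ}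
    (hgX : ((g * X * g⁻¹ : GL (Fin n) F) : Matrix (Fin n) (Fin n) F) = (c : F) • (X : Matrix (Fin n) (Fin n) F) ^ t)
    {r a : ℕ} (hr : r.Prime) (hg : g ^ (r ^ a) = 1) {N : ℕ} (hN : (N : F) ≠ 0) (hXN : X ^ N = 1)
    (hne : X * g ^ (r ^ (a - 1)) ≠ g ^ (r ^ (a - 1)) * X) : r ^ a ≤ n := by
  classical
  let K := AlgebraicClosure F
  let i : F →+* K := algebraMap F K
  have hi : Function.Injective i := i.injective
  let M : Matrix (Fin n) (Fin n) F →+* Module.End K (Fin n → K) :=
    ((Matrix.toLinAlgEquiv' (R := K) (n := Fin n)).toRingEquiv.toRingHom).comp i.mapMatrix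
  have hM : Function.Injective M := by
    intro A B hAB
    have h1 := (Matrix.toLinAlgEquiv' (R := K) (n := Fin n)).injective hAB
    ext j l
    exact hi (congrFun (congrFun h1 j) l)
  have hsm : ∀ (c : F) (A : Matrix (Fin n) (Fin n) F), M (c • A) = i c • M A := by
    intro c A
    have h1 : i.mapMatrix (c • A) = i c • i.mapMatrix A := by
      ext j l
      simp [Matrix.smul_apply, RingHom.mapMatrix_apply]
    change (Matrix.toLinAlgEquiv' (R := K) (n := Fin n)) (i.mapMatrix (c • A)) = _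
    rw [h1, map_smul]
    rfl
  have key := le_finrank (K := K) (V := Fin n → K) (X := M X) (h := M (g⁻¹ : GL (Fin n) F)) (z := i c) (t := t)
    ?_ hr (a := a) ?_ (N := N) ?_ ?_ ?_
  · rwa [Module.finrank_pi, Fintype.card_fin] at key
  · rw [← map_pow, ← map_mul, ← map_mul, ← hsm]
    congr 1
    have h1 : (X : Matrix (Fin n) (Fin n) F) * (g⁻¹ : GL (Fin n) F) =
        (g⁻¹ : GL (Fin n) F) * ((g * X * g⁻¹ : GL (Fin n) F) : Matrix (Fin n) (Fin n) F) := by
      rw [← Units.val_mul, ← Units.val_mul]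
      congr 1
      group
    rw [h1, hgX, Matrix.mul_smul]
  · rw [← map_pow, ← Units.val_pow_eq_pow_val, inv_pow, hg, inv_one, Units.val_one, map_one]
  · have h1 : ((N : ℕ) : K) = i (N : F) := by rw [map_natCast]
    rw [h1]
    intro h0
    exact hN (hi (by rw [h0, map_zero]))
  · rw [← map_pow, ← Units.val_pow_eq_pow_val, hXN, Units.val_one, map_one]
  · rw [← map_pow, ← map_mul, ← map_mul, ← Units.val_pow_eq_pow_val, ← Units.val_mul, ← Units.val_mul]
    intro h1
    have h2 := Units.ext (hM h1)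
    apply hne
    have h3 : Commute X ((g ^ (r ^ (a - 1)))⁻¹) := by
      rw [← inv_pow]; exact h2
    have h4 : Commute X (g ^ (r ^ (a - 1))) := by
      have := h3.inv_right
      rwa [inv_inv] at this
    exact h4

/-- **The good prime lemma.** -/
theorem good_of_field (h : Row k m P) {T : Type v} [Group T] (e : Soc P ≃* T) (p : ℕ) [Fact p.Prime]
    [CharP F p] {b c : ℕ} (φ : MulAut T) (x : T) (hcard : Nat.card (MulAut T) = Nat.card T * (c * b))
    (hc : ∀ r, r.Prime → 7 ≤ r → r ∣ c → r ∣ Nat.card T) (hφ : orderOf φ = b) (hx : φ x = x ^ p)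
    (hxp : ¬ p ∣ orderOf x) (hfix : ∀ s, x ^ p ^ s = x → b ∣ s) : ∃ r, r.Prime ∧ r ∣ m ∧ r ∣ Nat.card T := by
  by_contra hcon
  push Not at hcon
  have hfinT : Finite T := Finite.of_equiv _ e.toEquiv
  have hp : p.Prime := Fact.out
  have hm0 := h.num.m_ne
  -- the main claim
  have key : ∀ r : ℕ, r.Prime → r ∣ m → r ^ (m.factorization r) ≤ n := by
    intro r hr hrm
    set a := m.factorization r with ha
    have ha0 : 0 < a := hr.factorization_pos_of_dvd hm0 hrm
    have ham : r ^ a ∣ m := Nat.ordProj_dvd m r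
    obtain ⟨g, hgm, hg⟩ := h.elt
    have hgN := mem_normalizer hg
    set g' : GL (Fin n) F := g ^ (m / r ^ a) with hg'
    have hg'N : g' ∈ Subgroup.normalizer (P : Set (GL (Fin n) F)) := Subgroup.pow_mem _ hgN _
    have hg'o : orderOf g' = r ^ a := by
      rw [hg', orderOf_pow' g (Nat.div_pos (Nat.le_of_dvd (Nat.pos_of_ne_zero hm0) ham) (pow_pos hr.pos _)).ne', hgm,
        Nat.gcd_eq_right (Nat.div_dvd_of_dvd ham), Nat.div_div_self ham hm0]
    set G : Subgroup.normalizer (P : Set (GL (Fin n) F)) := ⟨g', hg'N⟩ with hG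
    have hGo : orderOf G = r ^ a := by
      rw [← hg'o]
      exact (Subgroup.orderOf_coe G).symm
    set α₀ : MulAut (Soc P) := conjSoc h.core.absIrred G with hα₀
    have hker : ∀ j : ℕ, α₀ ^ j = 1 → G ^ j = 1 := by
      intro j hj
      apply conjSoc_order h
      · rw [Subgroup.coe_pow, hG]
        simp only
        have h0 : g ^ m = 1 := by rw [← hgm, pow_orderOf_eq_one]
        rw [hg', pow_right_comm _ j m, pow_right_comm _ (m / r ^ a) m, h0, one_pow, one_pow]
      · rw [map_pow]; exact hj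
    have hα₀o : orderOf α₀ = r ^ a := by
      rw [← hGo]
      apply Nat.dvd_antisymm
      · exact orderOf_map_dvd _ G
      · apply orderOf_dvd_of_pow_eq_one
        exact hker _ (pow_orderOf_eq_one _)
    set α : MulAut T := MulAut.congr e α₀ with hα
    have hαo : orderOf α = r ^ a := by
      rw [← hα₀o]
      exact orderOf_injective (MulAut.congr e).toMonoidHom (MulAut.congr e).injective α₀
    have hrT : ¬ r ∣ Nat.card T := hcon r hr hrm
    have hrc : ¬ r ∣ c := fun h1 => hrT (hc r hr (h.num.seven_le hr hrm) h1)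
    obtain ⟨x', s, hx'o, hx's, hx'f⟩ := exists_frame hcard hφ hx hfix hr hrT hrc α hαo
    -- back to the socle
    have hαap : ∀ (j : ℕ) (y : T), (α ^ j) y = e ((α₀ ^ j) (e.symm y)) := by
      intro j y
      rw [hα, ← map_pow]
      rfl
    set y := e.symm x' with hy
    have hyo : ¬ p ∣ orderOf y := by
      have h1 : orderOf y = orderOf x' := orderOf_injective e.symm.toMonoidHom e.symm.injective x'
      rw [h1, hx'o]; exact hxp
    have hys : α₀ y = y ^ p ^ s := by
      have h1 := hαap 1 x'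
      rw [pow_one, hx's, pow_one] at h1
      have h2 := congrArg e.symm h1
      rw [MulEquiv.symm_apply_apply, map_pow] at h2
      exact h2.symm
    have hyf : (α₀ ^ (r ^ (a - 1))) y ≠ y := by
      intro h1
      have h2 : (α ^ (r ^ (a - 1))) x' = x' := by
        rw [hαap, ← hy, h1, hy, MulEquiv.apply_symm_apply]
      have h3 := hx'f _ h2
      have h4 := orderOf_dvd_of_pow_eq_one h3
      rw [hαo, Nat.pow_dvd_pow_iff_le_right hr.one_lt] at h4
      omega
    obtain ⟨X, N, hXy, hpN, hXN⟩ := exists_lift P y (p := p) hyo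
    -- `g' X g'⁻¹ = c X ^ (p ^ s)`
    have h1 : toSoc P (X ^ p ^ s) = toSoc P ⟨(G : GL (Fin n) F) * X * (G : GL (Fin n) F)⁻¹,
        (Subgroup.mem_normalizer_iff.1 G.2 X).1 X.2⟩ := by
      rw [← conjSoc_mk h.core.absIrred G X, map_pow, hXy, ← hα₀, hys]
    obtain ⟨z, hz⟩ := exists_of_toSoc_eq h1
    have h2 : (((X ^ p ^ s : P) : GL (Fin n) F) : Matrix (Fin n) (Fin n) F) =
        ((X : GL (Fin n) F) : Matrix (Fin n) (Fin n) F) ^ p ^ s := by
      rw [Subgroup.coe_pow, Units.val_pow_eq_pow_val]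
    rw [h2] at hz
    refine pow_le_degree (g := g') (X := X) (c := z) (t := p ^ s) hz hr ?_ (N := N) ?_ ?_ ?_
    · rw [← hg'o, pow_orderOf_eq_one]
    · intro h0
      rw [CharP.cast_eq_zero_iff F p] at h0
      exact hpN h0
    · have := congrArg Subtype.val hXN
      rwa [Subgroup.coe_pow] at this
    · intro h3
      apply hyf
      rw [hα₀, ← map_pow, ← hXy, conjSoc_mk]
      congr 1
      apply Subtype.ext
      simp only [Subgroup.coe_pow]
      change g' ^ r ^ (a - 1) * (X : GL (Fin n) F) * (g' ^ r ^ (a - 1))⁻¹ = X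
      rw [← h3, mul_inv_cancel_right]
  -- numerics
  have hone : ∀ r : ℕ, r.Prime → r ∣ m → m.factorization r = 1 ∧ r = k + 1 := by
    intro r hr hrm
    have h1 := key r hr hrm
    have ha0 : 0 < m.factorization r := hr.factorization_pos_of_dvd hm0 hrm
    have h2 := h.num.succ_le hr hrm
    have h3 := h.num.nlt
    have h4 := h.num.seven_le hr hrm
    have h5 : m.factorization r = 1 := by
      by_contra hne
      have h6 : 2 ≤ m.factorization r := by omega
      have h7 : r ^ 2 ≤ r ^ m.factorization r := Nat.pow_le_pow_right hr.pos h6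
      have h8 : r * 2 ≤ r ^ 2 := by
        rw [pow_two]
        exact Nat.mul_le_mul_left _ (by omega)
      omega
    refine ⟨h5, ?_⟩
    rw [h5, pow_one] at h1
    obtain ⟨d, hd⟩ := h.num.dvd_sub_one hr hrm
    have h6 : d = 1 := by
      have hd0 : d ≠ 0 := by
        rintro rfl
        omega
      by_contra hne
      have h7 : 2 ≤ d := by omega
      have h8 : k * 2 ≤ k * d := Nat.mul_le_mul_left _ h7
      omega
    rw [h6, mul_one] at hd
    omega
  refine h.num.kill (r₀ := k + 1) (by omega) (fun r hr hrm => (hone r hr hrm).2) ?_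
  intro hsq
  obtain ⟨r, hr, hrm⟩ := h.num.exists_prime
  obtain ⟨h1, h2⟩ := hone r hr hrm
  rw [← h2] at hsq
  have h3 := (hr.pow_dvd_iff_le_factorization hm0).1 hsq
  omega

end Cfsg.Agent.H462.Ppd
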