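import Cfsg.Agent.H462.Ppd.FieldBase
import Cfsg.Agent.H462.Ppd.GoodField

/-!
# TEAM PPD (S5948): a good prime from field data (helper462)

`good_of_FD h e p hT` : if `T ≅ Soc P` has field data in the characteristic of `F`, some prime `r ∣ m` divides `|T|`.
-/

set_option autoImplicit false

namespace Cfsg.Agent.H462.Ppd

open Cfsg Cfsg.Geo Matrix Cfsg.Agent.H100.Ppd
open Cfsg.Agent.H915.LD

universe u v

variable {n : ℕ} {F : Type u} [Field F] [Finite F] {k m : ℕ} {P : Subgroup (GL (Fin n) F)}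

theorem good_of_FD (h : Row k m P) {T : Type v} [Group T] (e : Soc P ≃* T) (p : ℕ) [Fact p.Prime] [CharP F p]
    (hT : FD T p) : ∃ r, r.Prime ∧ r ∣ m ∧ r ∣ Nat.card T := by
  obtain ⟨b, c, φ, x, h1, h2, h3, h4, h5, h6⟩ := hT
  exact good_of_field h e p φ x h1 h2 h3 h4 h5 h6

end Cfsg.Agent.H462.Ppd
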