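import Cfsg.Agent.H462.Ppd.FieldBase
import Cfsg.Agent.S0243
import Cfsg.Agent.S0813
import Cfsg.Agent.S0814
import Cfsg.Agent.S0815
import Cfsg.Agent.ClassicalGeometry.PSL2Basic
import Cfsg.Agent.LieClassical.FieldTransfer
import Cfsg.Agent.LieClassical.SUBasic
import Cfsg.Agent.LieClassical.SympCenter

/-!
# TEAM PPD (S5948): field data of `PSL_N(K)`, `PSp_2m(K)`, `PSU_n(q)` (helper462)
-/

set_option autoImplicit false

namespace Cfsg.Agent.H462.Ppd

open Cfsg Matrix Cfsg.Agent.LieClassical.FieldTransfer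

universe u v

section gen

variable (K : Type u) [Field K] [Fintype K]

theorem exists_gen : ∃ θ : Kˣ, orderOf θ = Fintype.card K - 1 := by
  classical
  obtain ⟨θ, hθ⟩ := IsCyclic.exists_generator (α := Kˣ)
  refine ⟨θ, ?_⟩
  rw [orderOf_eq_card_of_forall_mem_zpowers hθ, Nat.card_eq_fintype_card, Fintype.card_units]

theorem exists_exp (p : ℕ) [Fact p.Prime] [CharP K p] : ∃ f : ℕ, 1 ≤ f ∧ Fintype.card K = p ^ f := by
  obtain ⟨f, -, hf⟩ := FiniteField.card K p
  exact ⟨f, f.pos, hf⟩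

end gen

theorem not_dvd_sub {p f : ℕ} (hp : p.Prime) (hf : 1 ≤ f) : ¬ p ∣ p ^ f - 1 := by
  intro h
  have h1 : p ∣ p ^ f := dvd_pow_self p (by omega)
  have h2 : 1 ≤ p ^ f := Nat.one_le_pow _ _ hp.pos
  have h3 := Nat.dvd_sub h1 h
  rw [Nat.sub_sub_self h2] at h3
  exact hp.one_lt.ne' (Nat.dvd_one.1 h3)

theorem not_dvd_add {p f : ℕ} (hp : p.Prime) (hf : 1 ≤ f) : ¬ p ∣ p ^ f + 1 := by
  intro h
  have h1 : p ∣ p ^ f := dvd_pow_self p (by omega)
  exact hp.one_lt.ne' (Nat.dvd_one.1 ((Nat.dvd_add_right h1).1 h))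

variable {K : Type u} [Field K] [Fintype K]

theorem card_pgl {n : ℕ} (hn : 2 ≤ n) : Nat.card (ProjGenLinGroup (Fin n) K) =
    Nat.gcd n (Fintype.card K - 1) * Nat.card (ProjectiveSpecialLinearGroup (Fin n) K) := by
  classical
  have : NeZero n := ⟨by omega⟩
  have h1 := Cfsg.Agent.S0243.result (F := K) rfl n hn
  have h2 : Nat.card (ProjGenLinGroup (Fin n) K) * (Fintype.card K - 1) = Nat.card (GL (Fin n) K) :=
    Cfsg.Agent.ClassicalGeometry.PSL2Basic.card_PGL_mul (Fin n) K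
  rw [Matrix.card_GL_field, ← h1] at h2
  have h3 : 0 < Fintype.card K - 1 := by
    have := Fintype.one_lt_card (α := K)
    omega
  have h4 : Nat.card (ProjGenLinGroup (Fin n) K) * (Fintype.card K - 1) =
    (Nat.gcd n (Fintype.card K - 1) * Nat.card (ProjectiveSpecialLinearGroup (Fin n) K)) * (Fintype.card K - 1) := by
    rw [h2]; ring
  exact Nat.eq_of_mul_eq_mul_right h3 h4

omit [Fintype K] in
/-- `θ ^ j = θ⁻¹ ^ j` -/
theorem dvd_two_mul_of_eq {θ : Kˣ} {j : ℕ} {r : K} (h1 : (θ : K) ^ j = r) (h2 : (θ : K)⁻¹ ^ j = r) :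
    orderOf θ ∣ 2 * j := by
  apply orderOf_dvd_of_pow_eq_one
  apply Units.ext
  rw [Units.val_pow_eq_pow_val, two_mul, pow_add, Units.val_one]
  nth_rewrite 1 [h1]
  rw [← h2, ← mul_pow, inv_mul_cancel₀ θ.ne_zero, one_pow]

theorem prime_dvd_gcd_two {r m : ℕ} (hr7 : 7 ≤ r) (h : r ∣ Nat.gcd 2 m) : False := by
  have h1 := Nat.le_of_dvd (by norm_num) (h.trans (Nat.gcd_dvd_left 2 m))
  omega

/-- **Field data of `PSL_N(K)`.** -/
theorem fd_psl (p : ℕ) [Fact p.Prime] [CharP K p] {N : ℕ} (hN : 2 ≤ N) (h4 : N = 2 → 4 ≤ Fintype.card K) :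
    FD (ProjectiveSpecialLinearGroup (Fin N) K) p := by
  classical
  have hp : p.Prime := Fact.out
  obtain ⟨f, hf, hK⟩ := exists_exp K p
  obtain ⟨θ, hθ⟩ := exists_gen K
  have hcard := Cfsg.Agent.S0813.result (F := K) p f hf hK N hN (fun h => hK ▸ h4 h)
  rw [card_pgl hN] at hcard
  have h01 : (⟨0, by omega⟩ : Fin N) ≠ ⟨1, by omega⟩ := by
    intro h
    have := congrArg Fin.val h
    simp at this
  set i₀ : Fin N := ⟨0, by omega⟩ with hi₀
  set i₁ : Fin N := ⟨1, by omega⟩ with hi₁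
  have hθN : (θ : K) ^ (Fintype.card K - 1) = 1 := by
    rw [← hθ, ← Units.val_pow_eq_pow_val, pow_orderOf_eq_one, Units.val_one]
  have hfin : Finite (SpecialLinearGroup (Fin N) K) := inferInstance
  let σ : K ≃+* K := frobeniusEquiv K p
  have key := fd_of_matrix (κ := Fin N) (F := K) hp (G := SpecialLinearGroup (Fin N) K)
    (ι := ({ toFun := fun A => (A : Matrix (Fin N) (Fin N) K)
             map_one' := rfl
             map_mul' := fun _ _ => rfl } : SpecialLinearGroup (Fin N) K →* Matrix (Fin N) (Fin N) K))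
    (fun A B h => Subtype.ext h) (slCongr σ) (fun A i l => rfl) (b := f)
    (by rw [Nat.card_eq_fintype_card, hK]) rfl
    (⟨diagonal (dd (θ : K) i₀ i₁), by rw [det_diagonal, prod_dd θ.ne_zero]⟩ : SpecialLinearGroup (Fin N) K)
    (dd (θ : K) i₀ i₁) rfl (N := Fintype.card K - 1) (e := 2) (fun i => dd_pow hθN i)
    (by rw [hK]; exact not_dvd_sub hp hf) (by norm_num) (le_refl 2)
    ?_ ?_ ?_ (c := (if N = 2 then 1 else 2) * Nat.gcd N (Fintype.card K - 1)) ?_ ?_
  · exact key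
  · intro A hA
    obtain ⟨r, -, hr⟩ := Matrix.SpecialLinearGroup.mem_center_iff.1 hA
    exact ⟨r, by rw [← scalar_apply]; exact hr.symm⟩
  · intro j r hjr
    have h1 := hjr i₀
    have h2 := hjr i₁
    rw [dd_left h01] at h1
    rw [dd_right h01] at h2
    rw [← hθ]
    exact dvd_two_mul_of_eq h1 h2
  · intro s hs
    rw [hK] at hs
    exact dvd_of_sub hp.two_le hf hs
  · change Nat.card (MulAut (ProjectiveSpecialLinearGroup (Fin N) K)) =
      Nat.card (ProjectiveSpecialLinearGroup (Fin N) K) * _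
    rw [hcard]; ring
  · intro r hr hr7 hrc
    rcases hr.dvd_mul.1 hrc with h | h
    · exfalso
      split_ifs at h
      · exact hr.one_lt.ne' (Nat.dvd_one.1 h)
      · have := Nat.le_of_dvd (by norm_num) h
        omega
    · exact h.trans (Nat.gcd_dvd_right _ _)

/-- **Field data of `PSp_2m(K)`.** -/
theorem fd_psp (p : ℕ) [Fact p.Prime] [CharP K p] {m : ℕ} (hm : 2 ≤ m) (h3 : m = 2 → 3 ≤ Fintype.card K) :
    FD (PSp m K) p := by
  classical
  have hp : p.Prime := Fact.out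
  obtain ⟨f, hf, hK⟩ := exists_exp K p
  obtain ⟨θ, hθ⟩ := exists_gen K
  have hcard := Cfsg.Agent.S0814.result (F := K) p f hf hK m hm (fun h => hK ▸ h3 h)
  set i₀ : Fin m ⊕ Fin m := Sum.inl ⟨0, by omega⟩ with hi₀
  set i₁ : Fin m ⊕ Fin m := Sum.inr ⟨0, by omega⟩ with hi₁
  have h01 : i₀ ≠ i₁ := by
    rw [hi₀, hi₁]
    exact Sum.inl_ne_inr
  have hθN : (θ : K) ^ (Fintype.card K - 1) = 1 := by
    rw [← hθ, ← Units.val_pow_eq_pow_val, pow_orderOf_eq_one, Units.val_one]
  have hfin : Finite (symplecticGroup (Fin m) K) := Subtype.finite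
  let σ : K ≃+* K := frobeniusEquiv K p
  have hmem : (diagonal (dd (θ : K) i₀ i₁) : Matrix (Fin m ⊕ Fin m) (Fin m ⊕ Fin m) K) ∈
      symplecticGroup (Fin m) K := by
    have h1 : (dd (θ : K) i₀ i₁) = Sum.elim (fun i => if i = ⟨0, by omega⟩ then (θ : K) else 1)
        (fun i => if i = ⟨0, by omega⟩ then (θ : K)⁻¹ else 1) := by
      funext i
      rcases i with i | i
      · simp [dd, hi₀, hi₁]
      · simp [dd, hi₀, hi₁]
    rw [h1, ← fromBlocks_diagonal, SymplecticGroup.fromBlocks_mem_iff]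
    refine ⟨by simp, by simp, ?_⟩
    rw [diagonal_transpose, diagonal_mul_diagonal, Matrix.transpose_zero, Matrix.zero_mul, sub_zero, ← diagonal_one]
    congr 1
    funext i
    split_ifs
    · exact mul_inv_cancel₀ θ.ne_zero
    · exact one_mul 1
  have key := fd_of_matrix (κ := Fin m ⊕ Fin m) (F := K) hp (G := symplecticGroup (Fin m) K)
    (ι := ({ toFun := fun A => A.1
             map_one' := rfl
             map_mul' := fun _ _ => rfl } : symplecticGroup (Fin m) K →* Matrix (Fin m ⊕ Fin m) (Fin m ⊕ Fin m) K))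
    (fun A B h => Subtype.ext h) (spCongr (Fin m) σ) (fun A i l => rfl) (b := f)
    (by rw [Nat.card_eq_fintype_card, hK]) rfl
    (⟨diagonal (dd (θ : K) i₀ i₁), hmem⟩ : symplecticGroup (Fin m) K)
    (dd (θ : K) i₀ i₁) rfl (N := Fintype.card K - 1) (e := 2) (fun i => dd_pow hθN i)
    (by rw [hK]; exact not_dvd_sub hp hf) (by norm_num) (le_refl 2)
    ?_ ?_ ?_ (c := (if m = 2 ∧ p = 2 then 2 else 1) * Nat.gcd 2 (p ^ f - 1)) ?_ ?_
  · exact key
  · intro A hA
    obtain ⟨r, hr⟩ := (Cfsg.Agent.LieClassical.SympCenter.mem_center_iff m A).1 hA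
    exact ⟨r, by rw [← smul_one_eq_diagonal]; exact hr⟩
  · intro j r hjr
    have h1 := hjr i₀
    have h2 := hjr i₁
    rw [dd_left h01] at h1
    rw [dd_right h01] at h2
    rw [← hθ]
    exact dvd_two_mul_of_eq h1 h2
  · intro s hs
    rw [hK] at hs
    exact dvd_of_sub hp.two_le hf hs
  · change Nat.card (MulAut (PSp m K)) = Nat.card (PSp m K) * _
    rw [hcard]; ring
  · intro r hr hr7 hrc
    exfalso
    rcases hr.dvd_mul.1 hrc with h | h
    · split_ifs at h
      · have := Nat.le_of_dvd (by norm_num) h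
        omega
      · exact hr.one_lt.ne' (Nat.dvd_one.1 h)
    · exact prime_dvd_gcd_two hr7 h

/-- **Field data of `PSU_n(q)`.** -/
theorem fd_psu (p : ℕ) [Fact p.Prime] [CharP K p] {n q : ℕ} (hK : Fintype.card K = q ^ 2) (hn : 3 ≤ n)
    (h32 : ¬ (n = 3 ∧ q = 2)) : FD (PSU n K q) p := by
  classical
  have hp : p.Prime := Fact.out
  obtain ⟨b, hb, hKb⟩ := exists_exp K p
  obtain ⟨f, hf, hq, hbf⟩ : ∃ f : ℕ, 1 ≤ f ∧ q = p ^ f ∧ b = 2 * f := by
    have h1 : q ∣ p ^ b := by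
      rw [← hKb, hK, pow_two]
      exact Dvd.intro _ rfl
    obtain ⟨f, -, hf⟩ := (Nat.dvd_prime_pow hp).1 h1
    have h2 : b = 2 * f := by
      rw [hK, hf, ← pow_mul] at hKb
      have := Nat.pow_right_injective hp.two_le hKb
      omega
    exact ⟨f, by omega, hf, h2⟩
  obtain ⟨θ, hθ⟩ := exists_gen K
  have hcard := Cfsg.Agent.S0815.result (F := K) p f hf hq hK n hn h32
  set i₀ : Fin n := ⟨0, by omega⟩ with hi₀
  set i₁ : Fin n := ⟨1, by omega⟩ with hi₁
  set i₂ : Fin n := ⟨2, by omega⟩ with hi₂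
  have h01 : i₀ ≠ i₁ := by
    intro h
    have := congrArg Fin.val h
    simp [hi₀, hi₁] at this
  have h20 : i₂ ≠ i₀ := by
    intro h
    have := congrArg Fin.val h
    simp [hi₀, hi₂] at this
  have h21 : i₂ ≠ i₁ := by
    intro h
    have := congrArg Fin.val h
    simp [hi₁, hi₂] at this
  have hq2 : 2 ≤ q := by
    rw [hq]
    exact hp.two_le.trans (Nat.le_self_pow (by omega) p)
  set η : Kˣ := θ ^ (q - 1) with hη
  have hηo : orderOf η = q + 1 := by
    have h1 : q ^ 2 - 1 = (q - 1) * (q + 1) := by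
      have := Nat.sq_sub_sq q 1
      rw [one_pow] at this
      rw [this, mul_comm]
    rw [hη, orderOf_pow' θ (by omega), hθ, hK, h1, Nat.gcd_eq_right (Dvd.intro _ rfl),
      Nat.mul_div_cancel_left _ (by omega)]
  have hηN : (η : K) ^ (q + 1) = 1 := by
    rw [← hηo, ← Units.val_pow_eq_pow_val, pow_orderOf_eq_one, Units.val_one]
  have hfin : Finite (SU n K q) := inferInstance
  let σ : K ≃+* K := frobeniusEquiv K p
  have key := fd_of_matrix (κ := Fin n) (F := K) hp (G := SU n K q)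
    (ι := ({ toFun := fun A => ((A : SpecialLinearGroup (Fin n) K) : Matrix (Fin n) (Fin n) K)
             map_one' := rfl
             map_mul' := fun _ _ => rfl } : SU n K q →* Matrix (Fin n) (Fin n) K))
    (fun A B h => Subtype.ext (Subtype.ext h)) (suCongr n q σ) (fun A i l => rfl) (b := b)
    (by rw [Nat.card_eq_fintype_card, hKb]) hbf
    (Cfsg.Agent.LieClassical.SUBasic.suDiag q (dd (η : K) i₀ i₁) (prod_dd η.ne_zero i₀ i₁) (fun i => dd_pow hηN i))
    (dd (η : K) i₀ i₁) rfl (N := q + 1) (e := 1) (fun i => dd_pow hηN i)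
    (by rw [hq]; exact not_dvd_add hp hf) (le_refl 1) (by norm_num)
    ?_ ?_ ?_ (c := Nat.gcd n (q + 1)) ?_ ?_
  · exact key
  · intro A hA
    obtain ⟨r, h1, h2, rfl⟩ := (Cfsg.Agent.LieClassical.SUBasic.mem_center_SU_iff hK hn A).1 hA
    exact ⟨r, rfl⟩
  · intro j r hjr
    have h1 := hjr i₀
    have h2 := hjr i₂
    rw [dd_left h01] at h1
    rw [dd_other h20 h21, one_pow] at h2
    rw [← h2] at h1
    rw [one_mul, ← hηo]
    apply orderOf_dvd_of_pow_eq_one
    apply Units.ext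
    rw [Units.val_pow_eq_pow_val, h1, Units.val_one]
  · intro s hs
    rw [one_mul, hq] at hs
    exact dvd_of_add hp.two_le hf hs
  · change Nat.card (MulAut (PSU n K q)) = Nat.card (PSU n K q) * _
    rw [hcard]; ring
  · intro r hr hr7 hrc
    exact hrc.trans (Nat.gcd_dvd_right _ _)

end Cfsg.Agent.H462.Ppd
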