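import Mathlib

/-!
# TEAM PPD (S5948): field data, the general frame (helper462)

`FD T p` : the field data of `good_of_field`. `fd_of_matrix` : field data of `G / Z(G)`, `G` a finite group of
matrices stable under the Frobenius, from a diagonal element.
-/

set_option autoImplicit false

namespace Cfsg.Agent.H462.Ppd

open Matrix

universe u v

/-- Field data of `T` in characteristic `p`. -/
def FD (T : Type v) [Group T] (p : ℕ) : Prop :=
  ∃ (b c : ℕ) (φ : MulAut T) (x : T), Nat.card (MulAut T) = Nat.card T * (c * b) ∧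
    (∀ r : ℕ, r.Prime → 7 ≤ r → r ∣ c → r ∣ Nat.card T) ∧ orderOf φ = b ∧ φ x = x ^ p ∧ ¬ p ∣ orderOf x ∧
    ∀ s : ℕ, x ^ p ^ s = x → b ∣ s

/-! ### arithmetic -/

/-- `2 (p ^ s - 1)` divisible by `p ^ f - 1` -/
theorem dvd_of_sub {p f s : ℕ} (hp : 2 ≤ p) (hf : 1 ≤ f) (h : p ^ f - 1 ∣ 2 * (p ^ s - 1)) : f ∣ s := by
  have h1 : p ^ f - 1 ∣ 2 * (p ^ Nat.gcd f s - 1) := by
    have h2 := Nat.dvd_gcd (Dvd.intro_left 2 rfl : p ^ f - 1 ∣ 2 * (p ^ f - 1)) h
    rwa [Nat.gcd_mul_left, Nat.pow_sub_one_gcd_pow_sub_one] at h2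
  have hd : Nat.gcd f s ∣ f := Nat.gcd_dvd_left _ _
  by_cases h3 : Nat.gcd f s = f
  · exact Nat.gcd_eq_left_iff_dvd.1 h3
  · exfalso
    have h0 : 0 < Nat.gcd f s := Nat.gcd_pos_of_pos_left _ hf
    have h4 : Nat.gcd f s ≤ f - 1 := by
      have := Nat.le_of_dvd hf hd
      omega
    have h5 : 2 ≤ p ^ Nat.gcd f s := hp.trans (Nat.le_self_pow h0.ne' p)
    have h6 := Nat.le_of_dvd (by omega) h1
    have h7 : p ^ Nat.gcd f s ≤ p ^ (f - 1) := Nat.pow_le_pow_right (by omega) h4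
    have h8 : p ^ f = p ^ (f - 1) * p := by
      rw [← pow_succ]
      congr 1
      omega
    have h9 : p ^ (f - 1) * 2 ≤ p ^ (f - 1) * p := Nat.mul_le_mul_left _ hp
    omega

/-- `p ^ s - 1` divisible by `p ^ f + 1` -/
theorem dvd_of_add {p f s : ℕ} (hp : 2 ≤ p) (hf : 1 ≤ f) (h : p ^ f + 1 ∣ p ^ s - 1) : 2 * f ∣ s := by
  have h0 : p ^ f + 1 ∣ p ^ (2 * f) - 1 := by
    have h1 : p ^ (2 * f) - 1 = (p ^ f + 1) * (p ^ f - 1) := by
      rw [mul_comm 2 f, pow_mul]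
      have := Nat.sq_sub_sq (p ^ f) 1
      rwa [one_pow] at this
    rw [h1]
    exact Dvd.intro _ rfl
  have h1 : p ^ f + 1 ∣ p ^ Nat.gcd (2 * f) s - 1 := by
    have h2 := Nat.dvd_gcd h0 h
    rwa [Nat.pow_sub_one_gcd_pow_sub_one] at h2
  have hd : Nat.gcd (2 * f) s ∣ 2 * f := Nat.gcd_dvd_left _ _
  by_cases h3 : Nat.gcd (2 * f) s = 2 * f
  · exact Nat.gcd_eq_left_iff_dvd.1 h3
  · exfalso
    have h4 : 0 < Nat.gcd (2 * f) s := Nat.gcd_pos_of_pos_left _ (by omega)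
    have h5 : Nat.gcd (2 * f) s ≤ f := by
      obtain ⟨c, hc⟩ := hd
      have hc0 : c ≠ 0 := by
        rintro rfl
        omega
      have hc1 : c ≠ 1 := by
        rintro rfl
        rw [mul_one] at hc
        exact h3 hc.symm
      have hc2 : 2 ≤ c := by omega
      have h6 := Nat.mul_le_mul_left (Nat.gcd (2 * f) s) hc2
      rw [← hc] at h6
      omega
    have h6 : 2 ≤ p ^ Nat.gcd (2 * f) s := hp.trans (Nat.le_self_pow h4.ne' p)
    have h7 := Nat.le_of_dvd (by omega) h1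
    have h8 : p ^ Nat.gcd (2 * f) s ≤ p ^ f := Nat.pow_le_pow_right (by omega) h5
    omega

/-! ### central quotients -/

theorem map_center {G : Type u} [Group G] (Φ : MulAut G) : (Subgroup.center G).map (Φ : G →* G) = Subgroup.center G :=
  Subgroup.characteristic_iff_map_eq.1 inferInstance Φ

/-- the automorphism of the central quotient -/
noncomputable def qaut {G : Type u} [Group G] : MulAut G →* MulAut (G ⧸ Subgroup.center G) where
  toFun Φ := QuotientGroup.congr _ _ Φ (map_center Φ)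
  map_one' := by
    ext x
    induction x using QuotientGroup.induction_on with
    | H x => rfl
  map_mul' a b := by
    ext x
    induction x using QuotientGroup.induction_on with
    | H x => rfl

theorem qaut_mk {G : Type u} [Group G] (Φ : MulAut G) (x : G) :
    qaut Φ (QuotientGroup.mk x : G ⧸ Subgroup.center G) = QuotientGroup.mk (Φ x) := rfl

theorem fd_of_central {G : Type u} [Group G] [Finite G] {p : ℕ} (hp : p.Prime) {b c N e : ℕ} (Φ : MulAut G) (X : G)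
    (hΦ : Φ ^ b = 1) (hX : Φ X = X ^ p) (hXN : X ^ N = 1) (hpN : ¬ p ∣ N) (he1 : 1 ≤ e) (he2 : e ≤ 2)
    (hinj : ∀ j : ℕ, X ^ j ∈ Subgroup.center G → N ∣ e * j) (hnum : ∀ s : ℕ, N ∣ e * (p ^ s - 1) → b ∣ s)
    (hcard : Nat.card (MulAut (G ⧸ Subgroup.center G)) = Nat.card (G ⧸ Subgroup.center G) * (c * b))
    (hc : ∀ r : ℕ, r.Prime → 7 ≤ r → r ∣ c → r ∣ N) : FD (G ⧸ Subgroup.center G) p := by
  set x : G ⧸ Subgroup.center G := QuotientGroup.mk X with hx
  have hpow : ∀ j : ℕ, x ^ j = 1 ↔ X ^ j ∈ Subgroup.center G := by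
    intro j
    rw [hx, ← QuotientGroup.mk_pow, QuotientGroup.eq_one_iff]
  have hfix : ∀ s : ℕ, x ^ p ^ s = x → b ∣ s := by
    intro s hs
    apply hnum
    apply hinj
    rw [← hpow]
    have h1 : 1 ≤ p ^ s := Nat.one_le_pow _ _ hp.pos
    have h2 : x ^ (p ^ s - 1) * x = x := by
      rw [← pow_succ, Nat.sub_add_cancel h1, hs]
    exact mul_eq_right.1 h2
  have hact : ∀ s : ℕ, (qaut Φ ^ s) x = x ^ p ^ s := by
    intro s
    induction s with
    | zero => simp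
    | succ s ih =>
      have h1 : qaut Φ x = x ^ p := by rw [hx, qaut_mk, hX, QuotientGroup.mk_pow]
      rw [pow_succ, MulAut.mul_apply, h1, map_pow, ih, ← pow_mul, pow_succ]
  refine ⟨b, c, qaut Φ, x, hcard, ?_, ?_, ?_, ?_, hfix⟩
  · intro r hr hr7 hrc
    have h1 := hc r hr hr7 hrc
    have h2 : X ^ orderOf x ∈ Subgroup.center G := (hpow _).1 (pow_orderOf_eq_one x)
    have h3 := h1.trans (hinj _ h2)
    rcases hr.dvd_mul.1 h3 with h4 | h4
    · have := Nat.le_of_dvd he1 h4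
      omega
    · exact h4.trans (orderOf_dvd_natCard x)
  · apply Nat.dvd_antisymm
    · apply orderOf_dvd_of_pow_eq_one
      rw [← map_pow, hΦ, map_one]
    · apply hfix
      rw [← hact, pow_orderOf_eq_one]
      rfl
  · have := hact 1
    rwa [pow_one, pow_one] at this
  · intro h1
    apply hpN
    refine h1.trans (orderOf_dvd_of_pow_eq_one ?_)
    rw [hx, ← QuotientGroup.mk_pow, hXN]
    rfl

/-- **Field data from a group of matrices.** -/
theorem fd_of_matrix {κ : Type} [Fintype κ] [DecidableEq κ] {F : Type u} [Field F] [Finite F] {p : ℕ} (hp : p.Prime)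
    {G : Type v} [Group G] [Finite G] (ι : G →* Matrix κ κ F) (hι : Function.Injective ι) (Φ : MulAut G)
    (hΦ : ∀ A i l, ι (Φ A) i l = (ι A i l) ^ p) {b : ℕ} (hb : Nat.card F = p ^ b) {b' : ℕ} (hb' : b = b') (X : G) (d : κ → F)
    (hX : ι X = diagonal d) {N e : ℕ} (hdN : ∀ i, d i ^ N = 1) (hpN : ¬ p ∣ N) (he1 : 1 ≤ e) (he2 : e ≤ 2)
    (hcen : ∀ A ∈ Subgroup.center G, ∃ r : F, ι A = diagonal fun _ => r)
    (hinj : ∀ (j : ℕ) (r : F), (∀ i, d i ^ j = r) → N ∣ e * j)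
    (hnum : ∀ s : ℕ, N ∣ e * (p ^ s - 1) → b' ∣ s) {c : ℕ}
    (hcard : Nat.card (MulAut (G ⧸ Subgroup.center G)) = Nat.card (G ⧸ Subgroup.center G) * (c * b'))
    (hc : ∀ r : ℕ, r.Prime → 7 ≤ r → r ∣ c → r ∣ N) : FD (G ⧸ Subgroup.center G) p := by
  subst hb'
  have hιpow : ∀ j : ℕ, ι (X ^ j) = diagonal (fun i => d i ^ j) := by
    intro j
    rw [map_pow, hX, diagonal_pow]
    rfl
  refine fd_of_central hp (N := N) (e := e) Φ X ?_ ?_ ?_ hpN he1 he2 ?_ hnum hcard hc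
  · have h1 : ∀ (s : ℕ) (A : G) (i l : κ), ι ((Φ ^ s) A) i l = (ι A i l) ^ p ^ s := by
      intro s
      induction s with
      | zero => intro A i l; simp
      | succ s ih =>
        intro A i l
        rw [pow_succ, MulAut.mul_apply, ih, hΦ, ← pow_mul, pow_succ']
    ext A
    apply hι
    ext i l
    have : Fintype F := Fintype.ofFinite F
    rw [h1, ← hb, Nat.card_eq_fintype_card, FiniteField.pow_card]
    rfl
  · apply hι
    rw [hιpow]
    ext i l
    rw [hΦ, hX]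
    by_cases h1 : i = l
    · subst h1
      rw [diagonal_apply_eq, diagonal_apply_eq]
    · rw [diagonal_apply_ne _ h1, diagonal_apply_ne _ h1, zero_pow hp.ne_zero]
  · apply hι
    rw [hιpow, map_one, ← diagonal_one]
    congr 1
    funext i
    exact hdN i
  · intro j hj
    obtain ⟨r, hr⟩ := hcen _ hj
    rw [hιpow] at hr
    refine hinj j r fun i => ?_
    have := congrFun (congrFun hr i) i
    rwa [diagonal_apply_eq, diagonal_apply_eq] at this

/-! ### diagonal elements -/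

section diag

variable {κ : Type} [Fintype κ] [DecidableEq κ] {F : Type u} [Field F]

/-- `θ` at `i₀`, `θ⁻¹` at `i₁` -/
def dd (θ : F) (i₀ i₁ : κ) (i : κ) : F := (if i = i₀ then θ else 1) * (if i = i₁ then θ⁻¹ else 1)

omit [Fintype κ] in
theorem dd_left {θ : F} {i₀ i₁ : κ} (h : i₀ ≠ i₁) : dd θ i₀ i₁ i₀ = θ := by
  rw [dd, if_pos rfl, if_neg h, mul_one]

omit [Fintype κ] in
theorem dd_right {θ : F} {i₀ i₁ : κ} (h : i₀ ≠ i₁) : dd θ i₀ i₁ i₁ = θ⁻¹ := by
  rw [dd, if_pos rfl, if_neg h.symm, one_mul]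

omit [Fintype κ] in
theorem dd_other {θ : F} {i₀ i₁ i : κ} (h : i ≠ i₀) (h' : i ≠ i₁) : dd θ i₀ i₁ i = 1 := by
  rw [dd, if_neg h, if_neg h', one_mul]

theorem prod_dd {θ : F} (hθ : θ ≠ 0) (i₀ i₁ : κ) : ∏ i, dd θ i₀ i₁ i = 1 := by
  unfold dd
  rw [Finset.prod_mul_distrib, Finset.prod_ite_eq', Finset.prod_ite_eq', if_pos (Finset.mem_univ _),
    if_pos (Finset.mem_univ _), mul_inv_cancel₀ hθ]

omit [Fintype κ] in
theorem dd_pow {θ : F} {i₀ i₁ : κ} {N : ℕ} (h : θ ^ N = 1) (i : κ) : dd θ i₀ i₁ i ^ N = 1 := by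
  unfold dd
  rw [mul_pow]
  split_ifs <;> simp [h]

end diag

end Cfsg.Agent.H462.Ppd
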